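import Groth.Prelude.Def_W4c5qcohlocdualityLoc
import Groth.Agent.Lib.Helper2.ExtIso
import Groth.Agent.Lib.Helper17.ExtRealize
import Mathlib

/-! # Objects left-orthogonal to `M` in degrees 0 and 1, hereditarily (helper2)

For an object `M` of a Grothendieck abelian category, `A M` is the class of objects `Y` with
`Hom(Y, M) = 0 = Ext¹(Y, M)`, and `Q M` the class of objects all of whose subobjects are in `A M`.
`Q M` is a localizing class. -/

set_option autoImplicit false
universe w v u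
open CategoryTheory CategoryTheory.Limits Abelian

namespace Groth.Agent.Lib.Helper2.GabLocLib

variable {C : Type u} [Category.{v} C] [Abelian C] [IsGrothendieckAbelian.{w} C] (M : C)

/-- objects with no maps and no extensions to `M` -/
def A : ObjectProperty C := fun Y => (∀ f : Y ⟶ M, f = 0) ∧ (∀ e : Ext.{w} Y M 1, e = 0)

/-- objects all of whose subobjects are in `A M` -/
def Q : ObjectProperty C := fun Y => ∀ (Y' : C) (i : Y' ⟶ Y), Mono i → A M Y'

variable {M}

theorem A_of_iso {Y Y' : C} (e : Y ≅ Y') (h : A M Y) : A M Y' := by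
  refine ⟨fun f => ?_, fun x => ?_⟩
  · have := h.1 (e.hom ≫ f)
    rw [← cancel_epi e.hom, this, comp_zero]
  · have h1 := h.2 ((Ext.mk₀ e.hom).comp x (zero_add 1))
    have h2 : (Ext.mk₀ e.inv).comp ((Ext.mk₀ e.hom).comp x (zero_add 1)) (zero_add 1) = x := by
      rw [← Ext.comp_assoc (a₁₂ := 0) (a₂₃ := 1) (a := 1) _ _ _ (by lia) (by lia) (by lia),
        Ext.mk₀_comp_mk₀, e.inv_hom_id, Ext.mk₀_id_comp]
    rw [← h2, h1, Ext.comp_zero]

theorem A_ext {S : ShortComplex C} (hS : S.ShortExact) (h₁ : A M S.X₁) (h₃ : A M S.X₃) : A M S.X₂ := by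
  haveI := hS.epi_g
  refine ⟨fun f => ?_, fun x => ?_⟩
  · have h := h₁.1 (S.f ≫ f)
    have h2 : hS.exact.desc f h = 0 := h₃.1 _
    rw [← hS.exact.g_desc f h, h2, comp_zero]
  · have h := h₁.2 ((Ext.mk₀ S.f).comp x (zero_add 1))
    obtain ⟨x₃, hx₃⟩ := Ext.contravariant_sequence_exact₂ hS M x h
    rw [← hx₃, h₃.2 x₃, Ext.comp_zero]

theorem A_quot {S : ShortComplex C} (hS : S.ShortExact) (h₁ : ∀ f : S.X₁ ⟶ M, f = 0) (h₂ : A M S.X₂) :
    A M S.X₃ := by
  haveI := hS.epi_g
  refine ⟨fun f => ?_, fun x => ?_⟩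
  · have h := h₂.1 (S.g ≫ f)
    rw [← cancel_epi S.g, h, comp_zero]
  · have h := h₂.2 ((Ext.mk₀ S.g).comp x (zero_add 1))
    obtain ⟨x₁, hx₁⟩ := Ext.contravariant_sequence_exact₃ hS M x h (n₀ := 0) (by lia)
    obtain ⟨f₁, rfl⟩ := (Ext.mk₀_bijective S.X₁ M).2 x₁
    rw [← hx₁, h₁ f₁, Ext.mk₀_zero, Ext.comp_zero]

/-- `A M` is closed under arbitrary colimits -/
theorem A_colim {Φ : Type*} [Category Φ] {D : Φ ⥤ C} {c : Cocone D} (hc : IsColimit c)
    (h : ∀ F, A M (D.obj F)) : A M c.pt := by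
  refine ⟨fun f => ?_, fun x => ?_⟩
  · apply hc.hom_ext
    intro F
    rw [(h F).1 (c.ι.app F ≫ f), comp_zero]
  · -- embed `M` in an injective
    let T : ShortComplex C := ShortComplex.mk (Injective.ι M) (cokernel.π (Injective.ι M))
      (cokernel.condition _)
    have hT : T.ShortExact :=
      { exact := ShortComplex.exact_of_g_is_cokernel _ (cokernelIsCokernel _)
        mono_f := inferInstanceAs (Mono (Injective.ι M))
        epi_g := inferInstanceAs (Epi (cokernel.π (Injective.ι M))) }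
    haveI := hT.mono_f
    have h0 : x.comp (Ext.mk₀ T.f) (add_zero 1) = 0 :=
      Ext.eq_zero_of_injective _
    obtain ⟨x₃, hx₃⟩ := Ext.covariant_sequence_exact₁ c.pt hT x h0 (n₀ := 0) (by lia)
    obtain ⟨γ, rfl⟩ := (Ext.mk₀_bijective c.pt T.X₃).2 x₃
    -- local lifts
    have hl : ∀ F, ∃ l : D.obj F ⟶ T.X₂, l ≫ T.g = c.ι.app F ≫ γ := by
      intro F
      have h1 : (Ext.mk₀ (c.ι.app F ≫ γ)).comp hT.extClass (zero_add 1) = 0 := (h F).2 _
      obtain ⟨x₂, hx₂⟩ := Ext.covariant_sequence_exact₃ (D.obj F) hT (Ext.mk₀ (c.ι.app F ≫ γ))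
        (zero_add 1) h1
      obtain ⟨l, rfl⟩ := (Ext.mk₀_bijective _ _).2 x₂
      rw [Ext.mk₀_comp_mk₀] at hx₂
      exact ⟨l, (Ext.mk₀_bijective _ _).1 hx₂⟩
    have huniq : ∀ F (l l' : D.obj F ⟶ T.X₂), l ≫ T.g = l' ≫ T.g → l = l' := by
      intro F l l' hll
      have h1 : (l - l') ≫ T.g = 0 := by rw [Preadditive.sub_comp, hll, sub_self]
      have h2 := (h F).1 (hT.exact.lift (l - l') h1)
      have h3 := hT.exact.lift_f (l - l') h1
      rw [h2, zero_comp] at h3
      exact sub_eq_zero.1 h3.symm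
    choose l hl using hl
    let s : Cocone D :=
      { pt := T.X₂
        ι := { app := l
               naturality := fun F F' φ => by
                dsimp
                rw [Category.comp_id]
                apply huniq
                rw [Category.assoc, hl, hl, c.w_assoc] } }
    have hfac : hc.desc s ≫ T.g = γ := by
      apply hc.hom_ext
      intro F
      rw [hc.fac_assoc]
      exact hl F
    rw [← hx₃, ← hfac, ← Ext.mk₀_comp_mk₀,
      Ext.comp_assoc (a₁₂ := 0) (a₂₃ := 1) (a := 1) _ _ _ (by lia) (by lia) (by lia),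
      hT.comp_extClass, Ext.comp_zero]

theorem Q_le_A : Q M ≤ A M := fun Y hY => hY Y (𝟙 Y) inferInstance

theorem A_of_isZero {Y : C} (hY : IsZero Y) : A M Y :=
  ⟨fun f => hY.eq_of_src _ _, fun e => by
    rw [← Ext.mk₀_id_comp e, hY.eq_of_src (𝟙 Y) 0, Ext.mk₀_zero, Ext.zero_comp]⟩

theorem Q_mono {Y Y' : C} (i : Y' ⟶ Y) [Mono i] (h : Q M Y) : Q M Y' :=
  fun Z j _ => h Z (j ≫ i) (mono_comp j i)

theorem Q_epi {Y Y'' : C} (p : Y ⟶ Y'') [Epi p] (h : Q M Y) : Q M Y'' := by
  intro Z i _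
  -- pull back `Z` along `p`
  let S : ShortComplex C := ShortComplex.mk (kernel.ι (pullback.fst i p)) (pullback.fst i p)
    (kernel.condition _)
  have : Epi (pullback.fst i p) := Abelian.epi_pullback_of_epi_g i p
  have hS : S.ShortExact :=
    { exact := ShortComplex.exact_of_f_is_kernel _ (kernelIsKernel _)
      mono_f := inferInstanceAs (Mono (kernel.ι _))
      epi_g := inferInstanceAs (Epi (pullback.fst i p)) }
  have : Mono (pullback.snd i p) := pullback.snd_of_mono
  have h2 : A M S.X₂ := h _ (pullback.snd i p) inferInstance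
  have h1 : A M S.X₁ := h _ (kernel.ι (pullback.fst i p) ≫ pullback.snd i p) (mono_comp _ _)
  exact A_quot hS h1.1 h2

theorem Q_ext {S : ShortComplex C} (hS : S.ShortExact) (h₁ : Q M S.X₁) (h₃ : Q M S.X₃) : Q M S.X₂ := by
  intro Z i _
  have := hS.mono_f
  let T : ShortComplex C := ShortComplex.mk (kernel.ι (factorThruImage (i ≫ S.g)))
    (factorThruImage (i ≫ S.g)) (kernel.condition _)
  have hT : T.ShortExact :=
    { exact := ShortComplex.exact_of_f_is_kernel _ (kernelIsKernel _)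
      mono_f := inferInstanceAs (Mono (kernel.ι _))
      epi_g := inferInstanceAs (Epi (factorThruImage (i ≫ S.g))) }
  have h3 : A M T.X₃ := h₃ _ (image.ι (i ≫ S.g)) inferInstance
  have hk : (kernel.ι (factorThruImage (i ≫ S.g)) ≫ i) ≫ S.g = 0 := by
    have h0 := kernel.condition (factorThruImage (i ≫ S.g))
    have h1 := congrArg (· ≫ Limits.image.ι (i ≫ S.g)) h0
    rw [Category.assoc, Limits.image.fac, zero_comp] at h1
    rw [Category.assoc]
    exact h1
  have hm : Mono (hS.exact.lift _ hk) := by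
    apply (config := { allowSynthFailures := true }) mono_of_mono_fac (hS.exact.lift_f _ hk)
  have h1 : A M T.X₁ := h₁ _ (hS.exact.lift _ hk) hm
  exact A_ext hT h1 h3

theorem Q_of_isZero {Y : C} (hY : IsZero Y) : Q M Y := fun _ i _ =>
  A_of_isZero (IsZero.of_mono i hY)

instance : (Q M).IsClosedUnderSubobjects where
  prop_of_mono i _ h := Q_mono i h

instance : (Q M).IsClosedUnderQuotients where
  prop_of_epi p _ h := Q_epi p h

instance : (Q M).IsClosedUnderExtensions where
  prop_X₂_of_shortExact hS h₁ h₃ := Q_ext hS h₁ h₃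

instance : (Q M).ContainsZero where
  exists_zero := ⟨_, isZero_zero C, Q_of_isZero (isZero_zero C)⟩

instance : (Q M).IsSerreClass where

end Groth.Agent.Lib.Helper2.GabLocLib
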