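import Groth.Agent.Lib.Helper2.GabLoc.Hom

/-! # Transfinite filtrations of objects of the localizing closure (helper2) -/

set_option autoImplicit false
universe w w' v u
open CategoryTheory CategoryTheory.Limits Abelian

namespace Groth.Agent.Lib.Helper2.GabLocLib

variable {C : Type u} [Category.{v} C] [Abelian C] [IsGrothendieckAbelian.{w} C]
  (P : ObjectProperty C)

theorem subquot_of_epi {S S' : C} (p : S ⟶ S') [Epi p] (h : GabLoc.subquotCoprod.{w} P S) :
    GabLoc.subquotCoprod.{w} P S' := by
  obtain ⟨J, X, hX, B, i, q, hi, hq⟩ := h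
  exact ⟨J, X, hX, B, i, q ≫ p, hi, epi_comp q p⟩

theorem subquot_of_mono {S S' : C} (j : S' ⟶ S) [Mono j] (h : GabLoc.subquotCoprod.{w} P S) :
    GabLoc.subquotCoprod.{w} P S' := by
  obtain ⟨J, X, hX, B, i, q, hi, hq⟩ := h
  haveI := hi
  haveI := hq
  refine ⟨J, X, hX, pullback q j, pullback.fst q j ≫ i, pullback.snd q j, ?_, ?_⟩
  · haveI : Mono (pullback.fst q j) := pullback.fst_of_mono
    exact mono_comp _ _
  · exact Abelian.epi_pullback_of_epi_f q j

theorem subquot_of_mono_of_mem {Y Y' : C} (j : Y' ⟶ Y) [Mono j] (h : P Y) :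
    GabLoc.subquotCoprod.{w} P Y' := by
  classical
  refine ⟨PUnit.{w+1}, fun _ => Y, fun _ => h, Y', j ≫ Sigma.ι (fun _ : PUnit.{w+1} => Y) ⟨⟩, 𝟙 _,
    ?_, inferInstance⟩
  exact mono_comp _ _

theorem subquot_of_isZero {Y : C} (hY : IsZero Y) : GabLoc.subquotCoprod.{w} P Y :=
  ⟨PEmpty.{w+1}, fun x => x.elim, fun x => x.elim, Y, 0, 𝟙 _, ⟨fun _ _ _ => hY.eq_of_tgt _ _⟩,
    inferInstance⟩

theorem subquot_le_of_isLocalizing {Q : ObjectProperty C} (hQ : GabLoc.IsLocalizing.{w} Q)
    (hPQ : P ≤ Q) : GabLoc.subquotCoprod.{w} P ≤ Q := by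
  rintro A ⟨J, X, hX, B, i, q, hi, hq⟩
  haveI := hQ.isSerreClass
  haveI := hQ.isClosedUnderCoproducts J
  haveI := hi
  haveI := hq
  have h1 : Q (∐ X) := Q.prop_colimit (Discrete.functor X) (fun j => hPQ _ (hX j.as))
  exact Q.prop_of_epi q (Q.prop_of_mono i h1)

theorem locClosure_of_epi {X M : C} (p : X ⟶ M) [Epi p] (hX : GabLoc.locClosure.{w} P X) :
    GabLoc.locClosure.{w} P M := fun Q hQ hPQ => by
  haveI := hQ.isSerreClass
  exact Q.prop_of_epi p (hX Q hQ hPQ)

/-- the key step: a proper subobject of an object of the localizing closure can be enlarged by a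
subquotient of a coproduct of objects of `P` -/
theorem exists_larger_subobject {X : C} (hX : GabLoc.locClosure.{w} P X) (A : Subobject X)
    (hA : A ≠ ⊤) :
    ∃ (A' : Subobject X) (h : A < A'), GabLoc.monoModSubquot.{w} P (Subobject.ofLE A A' h.le) := by
  let M := cokernel A.arrow
  let π : X ⟶ M := cokernel.π A.arrow
  have hM : ¬ IsZero M := by
    intro h0
    apply hA
    rw [← Subobject.isIso_arrow_iff_eq_top]
    haveI : Epi A.arrow := Abelian.epi_of_cokernel_π_eq_zero _ (h0.eq_of_tgt _ _)
    exact isIso_of_mono_of_epi _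
  have hlM : GabLoc.locClosure.{w} P M := locClosure_of_epi P π hX
  -- there is a nonzero map from a subquotient to `M`
  obtain ⟨S, hS, f, hf⟩ : ∃ (S : C) (_ : GabLoc.subquotCoprod.{w} P S) (f : S ⟶ M), f ≠ 0 := by
    by_contra hcon
    push_neg at hcon
    apply hM
    refine isZero_of_locClosure P ?_ hlM
    intro Y hY Y' i _ f
    exact hcon Y' (subquot_of_mono_of_mem P i hY) f
  -- pull back
  let S' := pullback f π
  let a : S' ⟶ S := pullback.fst f π
  let b : S' ⟶ X := pullback.snd f π
  haveI : Epi a := Abelian.epi_pullback_of_epi_g f π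
  have hab : a ≫ f = b ≫ π := pullback.condition
  let A' : Subobject X := Subobject.mk (Limits.image.ι b)
  have hker : IsLimit (KernelFork.ofι A.arrow (cokernel.condition A.arrow)) :=
    Abelian.monoIsKernelOfCokernel
      (CokernelCofork.ofπ (cokernel.π A.arrow) (cokernel.condition A.arrow)) (cokernelIsCokernel _)
  -- A ≤ A'
  let g : (A : C) ⟶ S' := pullback.lift 0 A.arrow (by rw [zero_comp, cokernel.condition])
  have hg : g ≫ b = A.arrow := pullback.lift_snd _ _ _
  have hle : A ≤ A' := Subobject.le_mk_of_comm (g ≫ factorThruImage b) (by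
    rw [Category.assoc, Limits.image.fac, hg])
  have hnle : ¬ A' ≤ A := by
    intro h
    apply hf
    have h1 : b ≫ π = 0 := by
      have : b = (factorThruImage b ≫ (Subobject.underlyingIso (Limits.image.ι b)).inv ≫
          Subobject.ofLE A' A h) ≫ A.arrow := by
        rw [Category.assoc, Category.assoc, Subobject.ofLE_arrow,
          Subobject.underlyingIso_arrow, Limits.image.fac]
      rw [this, Category.assoc, cokernel.condition, comp_zero]
    rw [← cancel_epi a, hab, h1, comp_zero]
  refine ⟨A', lt_of_le_not_ge hle hnle, inferInstance, ?_⟩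
  -- the cokernel is a quotient of `S`
  let c : (A' : C) ⟶ cokernel (Subobject.ofLE A A' hle) := cokernel.π _
  obtain ⟨e, he, hee⟩ : ∃ e : S' ⟶ (A' : C), e ≫ A'.arrow = b ∧ Epi e := by
    refine ⟨factorThruImage b ≫ (Subobject.underlyingIso (Limits.image.ι b)).inv, ?_, epi_comp _ _⟩
    rw [Category.assoc, Subobject.underlyingIso_arrow, Limits.image.fac]
  haveI := hee
  have hcok : IsColimit (CokernelCofork.ofπ a (kernel.condition a)) :=
    Abelian.epiIsCokernelOfKernel (KernelFork.ofι (kernel.ι a) (kernel.condition a))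
      (kernelIsKernel a)
  have hz : kernel.ι a ≫ (e ≫ c) = 0 := by
    -- `kernel.ι a ≫ b` factors through `A`
    have h1 : (kernel.ι a ≫ b) ≫ π = 0 := by
      rw [Category.assoc, ← hab, ← Category.assoc, kernel.condition, zero_comp]
    let l : kernel a ⟶ (A : C) := hker.lift (KernelFork.ofι _ h1)
    have hl : l ≫ A.arrow = kernel.ι a ≫ b := hker.fac _ WalkingParallelPair.zero
    have h2 : kernel.ι a ≫ e = l ≫ Subobject.ofLE A A' hle := by
      rw [← cancel_mono A'.arrow, Category.assoc, Category.assoc, he, Subobject.ofLE_arrow, hl]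
    rw [← Category.assoc, h2, Category.assoc, cokernel.condition, comp_zero]
  let d : S ⟶ cokernel (Subobject.ofLE A A' hle) := hcok.desc (CokernelCofork.ofπ (e ≫ c) hz)
  have hd : a ≫ d = e ≫ c := hcok.fac _ WalkingParallelPair.one
  haveI : Epi (a ≫ d) := by rw [hd]; exact epi_comp _ _
  haveI : Epi d := epi_of_epi a d
  exact subquot_of_epi P d hS


section iterate

variable {P} {X : C} (hX : GabLoc.locClosure.{w} P X)

open scoped Classical in
/-- a larger subobject (or `⊤`) -/
noncomputable def largerSub (A : Subobject X) : Subobject X :=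
  if hA : A = ⊤ then ⊤ else (exists_larger_subobject P hX A hA).choose

@[simp]
lemma largerSub_top : largerSub hX (⊤ : Subobject X) = ⊤ := dif_pos rfl

lemma lt_largerSub (A : Subobject X) (hA : A ≠ ⊤) : A < largerSub hX A := by
  dsimp only [largerSub]
  rw [dif_neg hA]
  exact (exists_larger_subobject P hX A hA).choose_spec.choose

lemma le_largerSub (A : Subobject X) : A ≤ largerSub hX A := by
  by_cases hA : A = ⊤
  · subst hA
    simp only [largerSub_top, le_refl]
  · exact (lt_largerSub hX A hA).le

omit [IsGrothendieckAbelian.{w} C] in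
lemma isZero_cokernel_ofLE_of_eq (A A' : Subobject X) (h : A = A') :
    IsZero (cokernel (Subobject.ofLE A A' h.le)) := by
  subst h
  have : Subobject.ofLE A A le_rfl = 𝟙 _ := Subobject.ofLE_refl A
  rw [this]
  exact isZero_cokernel_of_epi _

lemma mem_ofLE_of_eq (A A' : Subobject X) (h : A = A') :
    GabLoc.monoModSubquot.{w} P (Subobject.ofLE A A' h.le) :=
  ⟨inferInstance, subquot_of_isZero P (isZero_cokernel_ofLE_of_eq A A' h)⟩

lemma mem_ofLE_le_largerSub (A : Subobject X) :
    GabLoc.monoModSubquot.{w} P (Subobject.ofLE _ _ (le_largerSub hX A)) := by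
  by_cases hA : A = ⊤
  · exact mem_ofLE_of_eq A _ (by rw [hA, largerSub_top])
  · have h := (exists_larger_subobject P hX A hA).choose_spec.choose_spec
    have heq : largerSub hX A = (exists_larger_subobject P hX A hA).choose := by
      simp [largerSub, dif_neg hA]
    refine ⟨inferInstance, ?_⟩
    obtain ⟨_, h2⟩ := h
    have e : cokernel (Subobject.ofLE A _ (exists_larger_subobject P hX A hA).choose_spec.choose.le)
        ≅ cokernel (Subobject.ofLE A _ (le_largerSub hX A)) :=
      cokernel.mapIso _ _ (Iso.refl _) (Subobject.isoOfEq _ _ heq.symm) (by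
        rw [Iso.refl_hom, Category.id_comp, Subobject.isoOfEq_hom, Subobject.ofLE_comp_ofLE])
    haveI : Epi e.hom := inferInstance
    exact subquot_of_epi P e.hom h2

lemma top_mem_range (A₀ : Subobject X) {J : Type w} [LinearOrder J] [OrderBot J] [SuccOrder J]
    [WellFoundedLT J] (hJ : HasCardinalLT (Subobject X) (Cardinal.mk J)) :
    ∃ (j : J), transfiniteIterate (largerSub hX) j A₀ = ⊤ :=
  top_mem_range_transfiniteIterate (largerSub hX) A₀ (lt_largerSub hX) (by simp)
    (fun h ↦ by simpa [hasCardinalLT_iff_cardinal_mk_lt] using hJ.of_injective _ h)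

lemma exists_ordinal (A₀ : Subobject X) :
    ∃ (o : Ordinal.{w}) (j : o.ToType), transfiniteIterate (largerSub hX) j A₀ = ⊤ := by
  let κ := Order.succ (Cardinal.mk (Shrink.{w} (Subobject X)))
  have : Nonempty κ.ord.ToType := by simp [κ]
  have := WellFoundedLT.toOrderBot κ.ord.ToType
  exact ⟨κ.ord, top_mem_range hX A₀ (lt_of_lt_of_le (Order.lt_succ _) (by simp [κ]))⟩

section

variable (A₀ : Subobject X) (J : Type w) [LinearOrder J] [OrderBot J] [SuccOrder J]
  [WellFoundedLT J]

/-- the functor `J ⥤ MonoOver X` of iterates -/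
@[simps]
noncomputable def functorToMonoOver : J ⥤ MonoOver X where
  obj j := MonoOver.mk (transfiniteIterate (largerSub hX) j A₀).arrow
  map {j j'} f := MonoOver.homMk (Subobject.ofLE _ _
      (monotone_transfiniteIterate _ _ (le_largerSub hX) (leOfHom f)))

/-- the induced functor `J ⥤ C` -/
noncomputable abbrev functor : J ⥤ C :=
  functorToMonoOver hX A₀ J ⋙ MonoOver.forget _ ⋙ Over.forget _

set_option backward.defeqAttrib.useBackward true in
instance : (functor hX A₀ J).IsWellOrderContinuous where
  nonempty_isColimit m hm := ⟨by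
    have := hm.nonempty_Iio.to_subtype
    let c := (Set.principalSegIio m).cocone (functorToMonoOver hX A₀ J ⋙ MonoOver.forget _)
    have : Mono c.pt.hom := by dsimp [c]; infer_instance
    apply IsGrothendieckAbelian.isColimitMapCoconeOfSubobjectMkEqISup
      ((Set.principalSegIio m).monotone.functor ⋙ functorToMonoOver hX A₀ J) c
    dsimp [c]
    simp only [Subobject.mk_arrow]
    exact transfiniteIterate_limit (largerSub hX) A₀ m hm⟩

set_option backward.isDefEq.respectTransparency.types false in
set_option backward.defeqAttrib.useBackward true in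
variable {J} in
/-- the map from the bottom is a transfinite composition -/
noncomputable def transfiniteCompositionOfShapeMapFromBot (j : J) :
    (GabLoc.monoModSubquot.{w} P).TransfiniteCompositionOfShape (Set.Iic j)
    ((functor hX A₀ J).map (homOfLE bot_le : ⊥ ⟶ j)) where
  F := (Set.initialSegIic j).monotone.functor ⋙ functor hX A₀ J
  isoBot := Iso.refl _
  incl :=
    { app k := (functor hX A₀ J).map (homOfLE k.2)
      naturality k k' h := by simp [MonoOver.forget] }
  isColimit := colimitOfDiagramTerminal isTerminalTop _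
  map_mem k hk := by
    dsimp [MonoOver.forget]
    convert!
      mem_ofLE_le_largerSub hX (transfiniteIterate (largerSub hX) k.1 A₀) using 2
    all_goals
      rw [Set.Iic.succ_eq_of_not_isMax hk,
        transfiniteIterate_succ _ _ _ (Set.not_isMax_coe _ hk)]

end

variable {A : C} {f : A ⟶ X} [Mono f]

set_option backward.defeqAttrib.useBackward true in
set_option backward.isDefEq.respectTransparency false in
/-- if the iteration reaches `⊤`, `f` is a transfinite composition -/
noncomputable def transfiniteCompositionOfShapeOfEqTop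
    {J : Type w} [LinearOrder J] [OrderBot J] [SuccOrder J] [WellFoundedLT J] {j : J}
    (hj : transfiniteIterate (largerSub hX) j (Subobject.mk f) = ⊤) :
    (GabLoc.monoModSubquot.{w} P).TransfiniteCompositionOfShape (Set.Iic j) f := by
  let t := transfiniteIterate (largerSub hX) j (Subobject.mk f)
  have := (Subobject.isIso_arrow_iff_eq_top t).2 hj
  apply (transfiniteCompositionOfShapeMapFromBot hX (Subobject.mk f) j).ofArrowIso
  refine Arrow.isoMk ((Subobject.isoOfEq _ _ (transfiniteIterate_bot _ _) ≪≫
    Subobject.underlyingIso f)) (asIso t.arrow) ?_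
  dsimp [MonoOver.forget]
  rw [Category.assoc, Subobject.underlyingIso_hom_comp_eq_mk, Subobject.ofLE_arrow,
    Subobject.ofLE_arrow]

variable (f)

include hX in
lemma exists_transfiniteCompositionOfShape :
    ∃ (J : Type w) (_ : LinearOrder J) (_ : OrderBot J) (_ : SuccOrder J)
        (_ : WellFoundedLT J),
    Nonempty ((GabLoc.monoModSubquot.{w} P).TransfiniteCompositionOfShape J f) := by
  obtain ⟨o, j, hj⟩ := exists_ordinal hX (Subobject.mk f)
  have : Nonempty o.ToType := ⟨j⟩
  have : OrderBot o.ToType := WellFoundedLT.toOrderBot _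
  exact ⟨_, _, _, _, _, ⟨transfiniteCompositionOfShapeOfEqTop hX hj⟩⟩

end iterate

section converse

omit [IsGrothendieckAbelian.{w} C] in
theorem epi_sigmaDesc_of_isColimit {Φ : Type w} [Category.{w'} Φ] {D : Φ ⥤ C} {c : Cocone D}
    (hc : IsColimit c) [HasCoproduct D.obj] : Epi (Sigma.desc (fun j => c.ι.app j)) := by
  refine ⟨fun g h hgh => ?_⟩
  apply hc.hom_ext
  intro j
  have := congrArg (fun t => Sigma.ι D.obj j ≫ t) hgh
  simpa only [← Category.assoc, Sigma.ι_desc] using this

theorem prop_of_isColimit_small {Q : ObjectProperty C} (hQ : GabLoc.IsLocalizing.{w} Q)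
    {Φ : Type w} [Category.{w'} Φ] {D : Φ ⥤ C} {c : Cocone D}
    (hc : IsColimit c) (h : ∀ j, Q (D.obj j)) : Q c.pt := by
  haveI := hQ.isSerreClass
  haveI := hQ.isClosedUnderCoproducts Φ
  have h1 : Q (∐ D.obj) := Q.prop_colimit (Discrete.functor D.obj) (fun j => h j.as)
  haveI := epi_sigmaDesc_of_isColimit hc
  exact Q.prop_of_epi (Sigma.desc (fun j => c.ι.app j)) h1

theorem locClosure_of_transfinite {X₀ X : C} (hX₀ : IsZero X₀) {f : X₀ ⟶ X} {J : Type w}
    [LinearOrder J] [OrderBot J] [SuccOrder J] [WellFoundedLT J]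
    (h : (GabLoc.monoModSubquot.{w} P).TransfiniteCompositionOfShape J f) :
    GabLoc.locClosure.{w} P X := by
  intro Q hQ hPQ
  haveI := hQ.isSerreClass
  have key : ∀ j : J, Q (h.F.obj j) := by
    intro j
    induction j using SuccOrder.limitRecOn with
    | isMin j hj =>
      have : j = ⊥ := hj.eq_bot
      subst this
      exact Q.prop_of_iso h.isoBot.symm (Q.prop_of_isZero hX₀)
    | succ j hj ih =>
      obtain ⟨hm, hs⟩ := h.map_mem j hj
      let g := h.F.map (homOfLE (Order.le_succ j))
      let S : ShortComplex C := ShortComplex.mk g (cokernel.π g) (cokernel.condition g)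
      have hS : S.ShortExact :=
        { exact := ShortComplex.exact_of_g_is_cokernel _ (cokernelIsCokernel g)
          mono_f := hm
          epi_g := inferInstanceAs (Epi (cokernel.π g)) }
      exact Q.prop_X₂_of_shortExact hS ih (subquot_le_of_isLocalizing P hQ hPQ _ hs)
    | isSuccLimit j hj ih =>
      have hc := h.F.isColimitOfIsWellOrderContinuous j hj
      exact prop_of_isColimit_small hQ hc (fun i => ih i.1 i.2)
  exact prop_of_isColimit_small hQ h.isColimit key

end converse

end Groth.Agent.Lib.Helper2.GabLocLib
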