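import Groth.Agent.Lib.Helper2.GabLoc.Basic

/-! # Objects hereditarily without maps to `M` (helper2)

`QH M` is the class of objects all of whose subobjects have no nonzero morphism to `M`; it is a
localizing class. -/

set_option autoImplicit false
universe w v u
open CategoryTheory CategoryTheory.Limits Abelian

namespace Groth.Agent.Lib.Helper2.GabLocLib

section basic

variable {C : Type u} [Category.{v} C] [Abelian C] (M : C)

/-- objects with no nonzero maps to `M` -/
def AH : ObjectProperty C := fun Y => ∀ f : Y ⟶ M, f = 0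

/-- objects all of whose subobjects are in `AH M` -/
def QH : ObjectProperty C := fun Y => ∀ (Y' : C) (i : Y' ⟶ Y), Mono i → AH M Y'

variable {M}

theorem AH_of_iso {Y Y' : C} (e : Y ≅ Y') (h : AH M Y) : AH M Y' := by
  intro f
  have := h (e.hom ≫ f)
  rw [← cancel_epi e.hom, this, comp_zero]

theorem AH_of_epi {Y Y' : C} (p : Y ⟶ Y') [Epi p] (h : AH M Y) : AH M Y' := by
  intro f
  have := h (p ≫ f)
  rw [← cancel_epi p, this, comp_zero]

theorem AH_ext {S : ShortComplex C} (hS : S.ShortExact) (h₁ : AH M S.X₁) (h₃ : AH M S.X₃) :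
    AH M S.X₂ := by
  intro f
  have := hS.epi_g
  have h0 : S.f ≫ f = 0 := h₁ _
  have hd := hS.exact.g_desc f h0
  rw [← hd, h₃ (hS.exact.desc f h0), comp_zero]

theorem AH_colim {Φ : Type*} [Category Φ] {D : Φ ⥤ C} {c : Cocone D} (hc : IsColimit c)
    (h : ∀ j, AH M (D.obj j)) : AH M c.pt := by
  intro f
  apply hc.hom_ext
  intro j
  rw [h j (c.ι.app j ≫ f), comp_zero]

theorem QH_le_AH : QH M ≤ AH M := fun Y hY => hY Y (𝟙 Y) inferInstance

theorem AH_of_isZero {Y : C} (hY : IsZero Y) : AH M Y := fun _ => hY.eq_of_src _ _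

theorem QH_mono {Y Y' : C} (i : Y' ⟶ Y) [Mono i] (h : QH M Y) : QH M Y' :=
  fun Z j _ => h Z (j ≫ i) (mono_comp j i)

theorem QH_epi {Y Y'' : C} (p : Y ⟶ Y'') [Epi p] (h : QH M Y) : QH M Y'' := by
  intro Z i _
  have : Epi (pullback.fst i p) := Abelian.epi_pullback_of_epi_g i p
  have : Mono (pullback.snd i p) := pullback.snd_of_mono
  exact AH_of_epi (pullback.fst i p) (h _ (pullback.snd i p) inferInstance)

theorem QH_ext {S : ShortComplex C} (hS : S.ShortExact) (h₁ : QH M S.X₁) (h₃ : QH M S.X₃) :
    QH M S.X₂ := by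
  intro Z i _
  have := hS.mono_f
  let T : ShortComplex C := ShortComplex.mk (kernel.ι (factorThruImage (i ≫ S.g)))
    (factorThruImage (i ≫ S.g)) (kernel.condition _)
  have hT : T.ShortExact :=
    { exact := ShortComplex.exact_of_f_is_kernel _ (kernelIsKernel _)
      mono_f := inferInstanceAs (Mono (kernel.ι _))
      epi_g := inferInstanceAs (Epi (factorThruImage (i ≫ S.g))) }
  have h3 : AH M T.X₃ := h₃ _ (image.ι (i ≫ S.g)) inferInstance
  have hk : (kernel.ι (factorThruImage (i ≫ S.g)) ≫ i) ≫ S.g = 0 := by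
    have h0 := kernel.condition (factorThruImage (i ≫ S.g))
    have h1 := congrArg (· ≫ Limits.image.ι (i ≫ S.g)) h0
    rw [Category.assoc, Limits.image.fac, zero_comp] at h1
    rw [Category.assoc]
    exact h1
  have hm : Mono (hS.exact.lift _ hk) := by
    apply (config := { allowSynthFailures := true }) mono_of_mono_fac (hS.exact.lift_f _ hk)
  have h1 : AH M T.X₁ := h₁ _ (hS.exact.lift _ hk) hm
  exact AH_ext hT h1 h3

theorem QH_of_isZero {Y : C} (hY : IsZero Y) : QH M Y := fun _ i _ =>
  AH_of_isZero (IsZero.of_mono i hY)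

instance : (QH M).IsClosedUnderIsomorphisms where
  of_iso e h := by
    haveI : Epi e.hom := inferInstance
    exact QH_epi e.hom h

instance : (QH M).IsClosedUnderSubobjects where
  prop_of_mono i _ h := QH_mono i h

instance : (QH M).IsClosedUnderQuotients where
  prop_of_epi p _ h := QH_epi p h

instance : (QH M).IsClosedUnderExtensions where
  prop_X₂_of_shortExact hS h₁ h₃ := QH_ext hS h₁ h₃

instance : (QH M).ContainsZero where
  exists_zero := ⟨_, isZero_zero C, QH_of_isZero (isZero_zero C)⟩

instance : (QH M).IsSerreClass where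

instance : (QH M).IsClosedUnderBinaryProducts where
  limitsOfShape_le := by
    rintro X ⟨p⟩
    refine (QH M).prop_of_iso ?_ ((QH M).prop_biprod
      (p.prop_diag_obj (.mk .left)) (p.prop_diag_obj (.mk .right)))
    exact (biprod.isoProd _ _) ≪≫ IsLimit.conePointUniqueUpToIso (prodIsProd _ _)
      ((IsLimit.postcomposeHomEquiv (diagramIsoPair p.diag) _).2 p.isLimit)

instance : (QH M).IsClosedUnderFiniteProducts := .mk'

theorem QH_sigma_finite {J : Type*} [Finite J] (f : J → C) (hf : ∀ j, QH M (f j)) :
    QH M (∐ f) := by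
  haveI : HasFiniteBiproducts C := Abelian.hasFiniteBiproducts
  have h : QH M (∏ᶜ f) := (QH M).prop_product hf
  exact (QH M).prop_of_iso ((biproduct.isoProduct f).symm ≪≫ biproduct.isoCoproduct f) h

end basic

section sigma

variable {C : Type u} [Category.{v} C] [Abelian C] [IsGrothendieckAbelian.{w} C] {M : C}

open CoproductsFromFiniteFiltered

attribute [local instance] IsFiltered.isConnected

/-- a subobject of a coproduct of objects of `QH M` is in `AH M` (uses AB5) -/
theorem AH_of_mono_sigma {J : Type w} (f : J → C) (hf : ∀ j, QH M (f j)) {Z : C} (z : Z ⟶ ∐ f)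
    [Mono z] : AH M Z := by
  let Φ := Finset (Discrete J)
  let D : Φ ⥤ C := liftToFinsetObj (Discrete.functor f)
  let c : Cocone D := finiteSubcoproductsCocone f
  have hc : IsColimit c := isColimitFiniteSubproductsCocone f
  let q : ∐ f ⟶ cokernel z := cokernel.π z
  let τ : D ⟶ (Functor.const Φ).obj (cokernel z) :=
    { app := fun F => c.ι.app F ≫ q
      naturality := fun F F' φ => by
        dsimp only [Functor.const_obj_obj, Functor.const_obj_map]
        rw [Category.comp_id, ← Category.assoc, c.w] }
  let S : ShortComplex (Φ ⥤ C) := ShortComplex.mk (kernel.ι τ) τ (kernel.condition τ)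
  have hS : S.Exact := ShortComplex.exact_of_f_is_kernel _ (kernelIsKernel τ)
  let f' : colimit (kernel τ) ⟶ ∐ f := colimit.desc (kernel τ) ⟨∐ f, kernel.ι τ ≫ c.ι⟩
  have hf' : ∀ F, (colimit.cocone (kernel τ)).ι.app F ≫ f' = S.f.app F ≫ c.ι.app F := by
    intro F
    exact colimit.ι_desc _ F
  have hq : ∀ F, c.ι.app F ≫ q = S.g.app F ≫ (constCocone Φ (cokernel z)).ι.app F := by
    intro F
    exact (Category.comp_id _).symm
  have hex := colim.exact_mapShortComplex (S := S) hS (colimit.isColimit (kernel τ)) hc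
    (isColimitConstCocone Φ (cokernel z)) f' q hf' hq
  haveI : Mono (kernel.ι τ) := inferInstance
  haveI : Mono f' := colim.map_mono' (kernel.ι τ) (colimit.isColimit (kernel τ)) hc f' hf'
  have hz : IsLimit (KernelFork.ofι z (cokernel.condition z)) := Abelian.monoIsKernelOfCokernel
    (CokernelCofork.ofπ (cokernel.π z) (cokernel.condition z)) (cokernelIsCokernel z)
  haveI : Mono (colim.mapShortComplex S (colimit.isColimit (kernel τ)) c (constCocone Φ (cokernel z))
      f' q hf' hq).f := (inferInstance : Mono f')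
  have hf'k := hex.fIsKernel
  have e : colimit (kernel τ) ≅ Z := IsLimit.conePointUniqueUpToIso hf'k hz
  refine AH_of_iso e (AH_colim (colimit.isColimit (kernel τ)) ?_)
  intro F
  have hm : Mono ((kernel.ι τ).app F) := inferInstance
  refine QH_sigma_finite (fun x : F => f x.1.as) (fun x => hf _) _ ((kernel.ι τ).app F) hm

theorem QH_sigma {J : Type w} (f : J → C) (hf : ∀ j, QH M (f j)) : QH M (∐ f) :=
  fun _ z _ => AH_of_mono_sigma f hf z

instance (J : Type w) : (QH M).IsClosedUnderColimitsOfShape (Discrete J) where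
  colimitsOfShape_le := by
    rintro X ⟨p⟩
    have h := QH_sigma (M := M) (fun j : J => p.diag.obj ⟨j⟩) (fun j => p.prop_diag_obj ⟨j⟩)
    refine (QH M).prop_of_iso ?_ h
    exact (HasColimit.isoOfNatIso (Discrete.natIsoFunctor (F := p.diag))).symm ≪≫
      IsColimit.coconePointUniqueUpToIso (colimit.isColimit p.diag) p.isColimit

theorem QH_isLocalizing : GabLoc.IsLocalizing.{w} (QH M) :=
  ⟨inferInstance, fun _ => inferInstance⟩

/-- an object of the localizing closure of `P` with no maps from subobjects of members of `P`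
... more precisely: if `P ≤ QH M` and `M` is in the localizing closure of `P`, then `M = 0`. -/
theorem isZero_of_locClosure (P : ObjectProperty C) (h : P ≤ QH M)
    (hM : GabLoc.locClosure.{w} P M) : IsZero M := by
  have h1 : QH M M := hM (QH M) QH_isLocalizing h
  have h2 : 𝟙 M = 0 := h1 M (𝟙 M) inferInstance (𝟙 M)
  exact (IsZero.iff_id_eq_zero M).2 h2

end sigma

end Groth.Agent.Lib.Helper2.GabLocLib
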