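import Groth.Agent.Lib.Helper2.GabLoc.Basic

/-! # `Q M` is closed under coproducts (helper2) -/

set_option autoImplicit false
universe w v u
open CategoryTheory CategoryTheory.Limits Abelian

namespace Groth.Agent.Lib.Helper2.GabLocLib

variable {C : Type u} [Category.{v} C] [Abelian C] [IsGrothendieckAbelian.{w} C] {M : C}

instance : (Q M).IsClosedUnderBinaryProducts where
  limitsOfShape_le := by
    rintro X ⟨p⟩
    refine (Q M).prop_of_iso ?_ ((Q M).prop_biprod
      (p.prop_diag_obj (.mk .left)) (p.prop_diag_obj (.mk .right)))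
    exact (biprod.isoProd _ _) ≪≫ IsLimit.conePointUniqueUpToIso (prodIsProd _ _)
      ((IsLimit.postcomposeHomEquiv (diagramIsoPair p.diag) _).2 p.isLimit)

instance : (Q M).IsClosedUnderFiniteProducts := .mk'

theorem Q_sigma_finite {J : Type*} [Finite J] (f : J → C) (hf : ∀ j, Q M (f j)) : Q M (∐ f) := by
  haveI : HasFiniteBiproducts C := Abelian.hasFiniteBiproducts
  have h : Q M (∏ᶜ f) := (Q M).prop_product hf
  exact (Q M).prop_of_iso ((biproduct.isoProduct f).symm ≪≫ biproduct.isoCoproduct f) h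

open CoproductsFromFiniteFiltered

attribute [local instance] IsFiltered.isConnected

/-- a subobject of a coproduct of objects of `Q M` is in `A M` (uses AB5) -/
theorem A_of_mono_sigma {J : Type w} (f : J → C) (hf : ∀ j, Q M (f j)) {Z : C} (z : Z ⟶ ∐ f) [Mono z] :
    A M Z := by
  let Φ := Finset (Discrete J)
  let D : Φ ⥤ C := liftToFinsetObj (Discrete.functor f)
  let c : Cocone D := finiteSubcoproductsCocone f
  have hc : IsColimit c := isColimitFiniteSubproductsCocone f
  let q : ∐ f ⟶ cokernel z := cokernel.π z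
  let τ : D ⟶ (Functor.const Φ).obj (cokernel z) :=
    { app := fun F => c.ι.app F ≫ q
      naturality := fun F F' φ => by
        dsimp only [Functor.const_obj_obj, Functor.const_obj_map]
        rw [Category.comp_id, ← Category.assoc, c.w] }
  let S : ShortComplex (Φ ⥤ C) := ShortComplex.mk (kernel.ι τ) τ (kernel.condition τ)
  have hS : S.Exact := ShortComplex.exact_of_f_is_kernel _ (kernelIsKernel τ)
  let f' : colimit (kernel τ) ⟶ ∐ f := colimit.desc (kernel τ) ⟨∐ f, kernel.ι τ ≫ c.ι⟩
  have hf' : ∀ F, (colimit.cocone (kernel τ)).ι.app F ≫ f' = S.f.app F ≫ c.ι.app F := by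
    intro F
    exact colimit.ι_desc _ F
  have hq : ∀ F, c.ι.app F ≫ q = S.g.app F ≫ (constCocone Φ (cokernel z)).ι.app F := by
    intro F
    exact (Category.comp_id _).symm
  have hex := colim.exact_mapShortComplex (S := S) hS (colimit.isColimit (kernel τ)) hc
    (isColimitConstCocone Φ (cokernel z)) f' q hf' hq
  haveI : Mono (kernel.ι τ) := inferInstance
  haveI : Mono f' := colim.map_mono' (kernel.ι τ) (colimit.isColimit (kernel τ)) hc f' hf'
  -- both `z` and `f'` are kernels of `q`
  have hz : IsLimit (KernelFork.ofι z (cokernel.condition z)) := Abelian.monoIsKernelOfCokernel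
    (CokernelCofork.ofπ (cokernel.π z) (cokernel.condition z)) (cokernelIsCokernel z)
  haveI : Mono (colim.mapShortComplex S (colimit.isColimit (kernel τ)) c (constCocone Φ (cokernel z))
      f' q hf' hq).f := (inferInstance : Mono f')
  have hf'k := hex.fIsKernel
  have e : colimit (kernel τ) ≅ Z := IsLimit.conePointUniqueUpToIso hf'k hz
  refine A_of_iso e (A_colim (colimit.isColimit (kernel τ)) ?_)
  intro F
  have hm : Mono ((kernel.ι τ).app F) := inferInstance
  refine Q_sigma_finite (fun x : F => f x.1.as) (fun x => hf _) _ ((kernel.ι τ).app F) hm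

theorem Q_sigma {J : Type w} (f : J → C) (hf : ∀ j, Q M (f j)) : Q M (∐ f) :=
  fun _ z _ => A_of_mono_sigma f hf z

instance (J : Type w) : (Q M).IsClosedUnderColimitsOfShape (Discrete J) where
  colimitsOfShape_le := by
    rintro X ⟨p⟩
    have h := Q_sigma (M := M) (fun j : J => p.diag.obj ⟨j⟩) (fun j => p.prop_diag_obj ⟨j⟩)
    refine (Q M).prop_of_iso ?_ h
    exact (HasColimit.isoOfNatIso (Discrete.natIsoFunctor (F := p.diag))).symm ≪≫
      IsColimit.coconePointUniqueUpToIso (colimit.isColimit p.diag) p.isColimit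

theorem Q_isLocalizing : GabLoc.IsLocalizing.{w} (Q M) :=
  ⟨inferInstance, fun _ => inferInstance⟩

/-- a class all of whose members are in `A M` consists of objects for which `M` is closed -/
theorem isClosedFor_of_le_A (T : ObjectProperty C) (h : T ≤ A M) : GabLoc.IsClosedFor T M := by
  refine ⟨fun Y hY f => (h Y hY).1 f, fun N Y i p hp hY hS => ?_⟩
  have h0 : hS.extClass = 0 := (h Y hY).2 _
  have h1 : hS.extClass.comp (Ext.mk₀ (𝟙 M)) (by lia : 1 + 0 = 1) = 0 := by rw [h0, Ext.zero_comp]
  obtain ⟨x₂, hx₂⟩ := Ext.contravariant_sequence_exact₁ hS M (Ext.mk₀ (𝟙 M)) (by lia) h1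
  obtain ⟨r, rfl⟩ := (Ext.mk₀_bijective _ _).2 x₂
  rw [Ext.mk₀_comp_mk₀] at hx₂
  exact ⟨⟨r, (Ext.mk₀_bijective _ _).1 hx₂⟩⟩

/-- if `M` is closed for a class closed under subobjects, the class lies in `Q M` -/
theorem le_Q_of_isClosedFor (P : ObjectProperty C) [P.IsClosedUnderSubobjects]
    (h : GabLoc.IsClosedFor P M) : P ≤ Q M := by
  intro Y hY Y' i _
  have hY' : P Y' := P.prop_of_mono i hY
  refine ⟨fun f => h.1 hY' f, fun e => ?_⟩
  obtain ⟨N, a, b, w, hS, rfl⟩ := Groth.Agent.Lib.Helper17.ExtRealize.exists_extClass e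
  obtain ⟨⟨r, hr⟩⟩ := h.2 a b w hY' hS
  exact Groth.Agent.Lib.Helper2.ExtIso.extClass_eq_zero_of_retraction a b w hS r hr

theorem locClosure_le_Q (P : ObjectProperty C) (h : P ≤ Q M) : GabLoc.locClosure.{w} P ≤ Q M :=
  fun _ hY => hY (Q M) Q_isLocalizing h

theorem le_locClosure (P : ObjectProperty C) : P ≤ GabLoc.locClosure.{w} P :=
  fun _ hY _ _ hPQ => hPQ _ hY

theorem isClosedFor_anti {P P' : ObjectProperty C} (h : P ≤ P') (hM : GabLoc.IsClosedFor P' M) :
    GabLoc.IsClosedFor P M :=
  ⟨fun _ hY f => hM.1 (h _ hY) f, fun _ _ i p hp hY hS => hM.2 i p hp (h _ hY) hS⟩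

theorem isClosedFor_locClosure_of_le_Q (P : ObjectProperty C) (h : P ≤ Q M) :
    GabLoc.IsClosedFor (GabLoc.locClosure.{w} P) M :=
  isClosedFor_of_le_A _ ((locClosure_le_Q P h).trans Q_le_A)

end Groth.Agent.Lib.Helper2.GabLocLib
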